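import Cfsg.Agent.Omega.KL.TwoZ.GE
import Cfsg.Agent.Omega.KL.StarQ.VecL
import Cfsg.Agent.Omega.KL.FlagNO

/-!
# THEOREM G* over lines, one-sided abstract form (bb #24444 (C), (F4)); no condition on the minimal parabolics but `uni`

`C ≥ T`, `N = ⟨Zj ^ C⟩`, `E ≤ Vi` (a line or `Z i`), `X ≥ N, Vi` elementary abelian, all normalised by `C` (not `Vi`).

* `PreL`, **`PreL.inp`** : the input of THEOREM KL*(q) (`StarQ.InpL`) for an `A` which is exact modulo the kernel;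
* `GSt C T Vi E Zj X B` : the frame; `GSt.no_E` : (NO) on `N E / E` (863's `flag_no` in `C / E`); `GSt.le_E`;
* **`GSt.false_of`** : `K ≤ C_C(E)` normalised by `C`, `[X, K] ≤ N E`, `N ≤ ⟨Zj ^ (K T)⟩` : impossible.
-/

set_option autoImplicit false
set_option linter.unusedSectionVars false

namespace Cfsg.Agent.Omega.KL.GLine

open Subgroup Cfsg Cfsg.Agent.Omega.MinPar
open Cfsg.Agent.ZN (o2 zc)
open Cfsg.Agent.ClassTwoFusion.Quad Cfsg.Agent.Omega.ML.MinFrame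
open Cfsg.Agent.Omega.OM.KTwo (ne_add_one eq_add_one add_one_add_one le_normalizer_V le_V exists_mul_of_mem_sup)
open Cfsg.Agent.MinSimple.MinParabolic (IsMinPar)
open Cfsg.Agent.Omega.NoFF.Basic (conj_conj mem_conj conj_le_iff comm_symm comm_mono Z_le_V V_le)
open Cfsg.Agent.ZN.ChoiceSit (Syl exists_syl syl_conj o2_le_syl syl_not_dvd)
open Cfsg.Agent.MinSimple.VModule (mem_zc zc_le normalizer_le_normalizer_zc le_o2
  o2_isPGroup o2_le zc_le_centralizer le_centralizer_zc le_normalizer_o2 oddGen oddGen_def)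
open Cfsg.Agent.Omega.TC (kgroup_mono)
open Cfsg.Agent.Omega.TC.LemZ (card_eq le_norm_of norm_cent norm_inf)
open Cfsg.Agent.Omega.KL.Quo (norm_lift)
open Cfsg.Agent.Omega.KL.StarQ (InpL)
open Cfsg.Agent.Omega.KL.TwoS (Mx relIndex_anti relIndex_mono relIndex_le_of_sup)
open Cfsg.Agent.Omega.KL.TwoZ (exists_odd exists_fix_sec tE V_le_of norm_V)
open Cfsg.Agent.Omega.ML.Final (conjAct)
open scoped Pointwise

universe u v

/-- the input of THEOREM KL*(q), `Y` is `T`-invariant, the odd elements of `N_C(T)` fix `Y` pointwise -/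
structure PreL {C : Type u} [Group C] {M : Type v} [Group M] [MulDistribMulAction C M] (T A : Subgroup C)
    (Z Y : Subgroup M) : Prop where
  sq : ∀ m : M, m * m = 1
  two : IsPGroup 2 T
  syl : ¬ 2 ∣ T.index
  tZ : ∀ z ∈ Z, ∀ t ∈ T, t • z = z
  NZ : ∀ g ∈ normalizer (T : Set C), ∀ z ∈ Z, g • z ∈ Z
  TY : ∀ t ∈ T, ∀ w ∈ Y, t • w ∈ Y
  NY : ∀ g ∈ normalizer (T : Set C), Odd (orderOf g) → ∀ w ∈ Y, g • w = w
  par : ∀ P : Subgroup C, IsMinPar T P → (∀ z ∈ Z, ∀ p ∈ P, p • z = z) ∨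
    ∀ g ∈ P, Odd (orderOf g) → ∀ w ∈ Y, g • w = w
  el : ∀ a ∈ A, a * a = 1
  AZ : A ≤ o2 (fxr C Z)
  AY : A ≤ o2 (fxr C Y ⊔ T)
  /-- `A` is faithful on `⟨Z^C⟩` modulo the kernel -/
  nk : ∀ a ∈ A, (∀ (c : C), ∀ z ∈ Z, a • c • z = c • z) → ∀ m : M, a • m = m
  mv : ∃ a ∈ A, ∃ m : M, a • m ≠ m
  no : ∀ B : Subgroup C, B ≤ A → (fxr C (⊤ : Subgroup M)).relIndex B ≤ (cv M (B : Set C)).index
  le : (cv M (A : Set C)).index ≤ (fxr C (⊤ : Subgroup M)).relIndex A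
  KC : IsKGroup C

section pre

variable {C : Type u} [Group C] [Finite C] {M : Type v} [Group M] [Finite M] [MulDistribMulAction C M]
  {T A : Subgroup C} {Z Y : Subgroup M}

theorem PreL.inp (h : PreL T A Z Y) :
    ∃ (H : Type u) (_ : Group H) (_ : Finite H) (_ : MulDistribMulAction H M) (T' A' : Subgroup H),
      InpL T' A' Z Y := by
  have htriv : ∀ k ∈ fxr C (⊤ : Subgroup M), ∀ m : M, k • m = m := fun k hk m => hk m (mem_top m)
  have hN : (fxr C (⊤ : Subgroup M)).Normal := fxr_normal fun _ _ _ => mem_top _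
  set N := fxr C (⊤ : Subgroup M) with hNdef
  let _ : MulDistribMulAction (C ⧸ N) M := quoAct N htriv
  let π : C →* C ⧸ N := QuotientGroup.mk' N
  have hπ : Function.Surjective π := QuotientGroup.mk'_surjective N
  have he : ∀ (g : C) (v : M), π g • v = g • v := fun _ _ => rfl
  have hker : ∀ k : C, (∀ v : M, k • v = v) → π k = 1 := fun k hk =>
    (QuotientGroup.eq_one_iff k).2 fun v _ => hk v
  have hker2 : ∀ k : C, π k = 1 → ∀ v : M, k • v = v := fun k hk v =>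
    (QuotientGroup.eq_one_iff k).1 hk v (mem_top v)
  -- stabilisers
  have hfx : ∀ Y' : Subgroup M, (fxr C Y').map π = fxr (C ⧸ N) Y' := by
    intro Y'
    ext g
    constructor
    · rintro ⟨c, hc, rfl⟩
      exact hc
    · intro hg
      obtain ⟨c, rfl⟩ := hπ g
      exact ⟨c, hg, rfl⟩
  have ho2 : ∀ S : Subgroup C, A ≤ o2 S → A.map π ≤ o2 (S.map π) := by
    intro S hS
    refine (map_mono hS).trans (le_o2 (map_mono (o2_le _)) ((o2_isPGroup _).map π) ?_)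
    exact (map_mono (le_normalizer_o2 _)).trans (le_normalizer_map π)
  have hx : A.map π ≤ o2 (fxr (C ⧸ N) Z) := by
    rw [← hfx]
    exact ho2 _ h.AZ
  have hy : A.map π ≤ o2 (fxr (C ⧸ N) Y ⊔ T.map π) := by
    rw [← hfx, ← Subgroup.map_sup]
    exact ho2 _ h.AY
  have hsyl : ¬ 2 ∣ (T.map π).index := fun h2 => h.syl (h2.trans (index_map_dvd T hπ))
  have hKH : IsKGroup (C ⧸ N) := ML.Final.sec_KG.quo C h.KC N
  have hel : ∀ a ∈ A.map π, a * a = 1 := by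
    rintro _ ⟨a, ha, rfl⟩
    rw [← map_mul, h.el a ha, map_one]
  -- `A.map π` is faithful on `⟨Z^C⟩`
  have hfa : ∀ g ∈ A.map π, (∀ (c : C ⧸ N), ∀ z ∈ Z, g • c • z = c • z) → g = 1 := by
    rintro _ ⟨a, ha, rfl⟩ hg
    exact hker a (h.nk a ha fun c z hz => hg (π c) z hz)
  -- (NO)
  have hcv : ∀ B : Subgroup C, cv M (B.map π : Set (C ⧸ N)) = cv M (B : Set C) := by
    intro B
    ext v
    constructor
    · exact fun hv a ha => hv _ ⟨a, ha, rfl⟩
    · rintro hv _ ⟨a, ha, rfl⟩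
      exact hv a ha
  have hcard : ∀ B : Subgroup C, Nat.card (B.map π) = N.relIndex B := by
    intro B
    rw [← relIndex_bot_left, ← relIndex_comap, MonoidHom.comap_bot, QuotientGroup.ker_mk']
  have hno : ∀ B : Subgroup (C ⧸ N), B ≤ A.map π → Nat.card B ≤ (cv M (B : Set (C ⧸ N))).index := by
    intro B hB
    have e : (A ⊓ B.comap π).map π = B := by
      apply le_antisymm
      · rintro _ ⟨a, ha, rfl⟩
        exact ha.2
      · intro g hg
        obtain ⟨a, ha, rfl⟩ := hB hg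
        exact ⟨a, ⟨ha, hg⟩, rfl⟩
    rw [← e, hcv, hcard]
    exact h.no _ inf_le_left
  have hex : (cv M (A.map π : Set (C ⧸ N))).index = Nat.card (A.map π) := by
    refine le_antisymm ?_ (hno _ le_rfl)
    rw [hcv, hcard]
    exact h.le
  have hA1 : A.map π ≠ ⊥ := by
    intro h1
    obtain ⟨a, ha, m, hm⟩ := h.mv
    apply hm
    refine hker2 a ?_ m
    rw [← mem_bot, ← h1]
    exact ⟨a, ha, rfl⟩
  -- an atom
  obtain ⟨B, ⟨hBA, hB1, hBe⟩, hmin⟩ : ∃ B : Subgroup (C ⧸ N), (B ≤ A.map π ∧ B ≠ ⊥ ∧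
      (cv M (B : Set (C ⧸ N))).index = Nat.card B) ∧ ∀ B' : Subgroup (C ⧸ N), (B' ≤ A.map π ∧ B' ≠ ⊥ ∧
      (cv M (B' : Set (C ⧸ N))).index = Nat.card B') → B' ≤ B → B' = B := by
    obtain ⟨B, hB⟩ := (Set.toFinite {B : Subgroup (C ⧸ N) | B ≤ A.map π ∧ B ≠ ⊥ ∧
      (cv M (B : Set (C ⧸ N))).index = Nat.card B}).exists_minimal ⟨A.map π, le_rfl, hA1, hex⟩
    exact ⟨B, hB.prop, fun B' hB' hle => le_antisymm hle (hB.le_of_le hB' hle)⟩
  have htZ : ∀ z ∈ Z, ∀ t ∈ T.map π, t • z = z := by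
    rintro z hz _ ⟨t, ht, rfl⟩
    exact h.tZ z hz t ht
  refine ⟨C ⧸ N, inferInstance, inferInstance, inferInstance, T.map π, B, ?_⟩
  refine ⟨h.sq, h.two.map π, hsyl, htZ, ?_, ?_, ?_, ?_, fun a ha => hel a (hBA ha), hBe, ?_, ?_, hBA.trans hx,
    hBA.trans hy, hKH⟩
  · intro g hg z hz
    obtain ⟨t, ht, n, hn, rfl⟩ := norm_lift π hπ h.two h.syl hg
    rw [he, mul_smul]
    exact h.NZ t (le_normalizer ht) _ (h.NZ n hn z hz)
  · rintro _ ⟨t, ht, rfl⟩ w hw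
    exact h.TY t ht w hw
  · -- an element of odd order of `N(T π)` lifts to an element of odd order of `N(T)`, times `T`
    intro g hg hgo w hw
    obtain ⟨t, ht, n, hn, rfl⟩ := norm_lift π hπ h.two h.syl hg
    -- `T n` contains a power of `t n` of odd order ...
    have hR : (T ⊔ zpowers n) ≤ normalizer (T : Set C) := sup_le le_normalizer (zpowers_le.2 hn)
    have hm : π (t * n) ∈ (T ⊔ zpowers n).map π :=
      mem_map_of_mem π (mul_mem (mem_sup_left ht) (mem_sup_right (mem_zpowers n)))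
    obtain ⟨c, hc, hco, hce⟩ := exists_odd π hm hgo
    rw [← hce]
    exact h.NY c (hR hc) hco w hw
  · intro P hP
    obtain ⟨R, hR, rfl⟩ := Quo.exists_minPar π hπ hP
    rcases h.par R hR with h1 | h1
    · left
      rintro z hz _ ⟨r, hr, rfl⟩
      exact h1 z hz r hr
    · right
      intro g hg hog w hw
      obtain ⟨c, hc, hco, rfl⟩ := exists_odd π hg hog
      exact h1 c hc hco w hw
  · intro B' hB' hB1' hne
    refine lt_of_le_of_ne (hno B' (hB'.trans hBA)) fun h1 => hne ?_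
    exact hmin B' ⟨hB'.trans hBA, hB1', h1.symm⟩ hB'
  · -- `O₂(H)` centralises `⟨Z^H⟩`
    intro hle
    apply hB1
    rw [eq_bot_iff]
    intro b hb
    rw [mem_bot]
    refine hfa b (hBA hb) fun c z hz => ?_
    have h1 : c⁻¹ * b * c ∈ o2 (⊤ : Subgroup (C ⧸ N)) := by
      have := (mem_normalizer_iff.1 (le_normalizer_o2 (⊤ : Subgroup (C ⧸ N)) (mem_top c⁻¹)) b).1 (hle hb)
      rwa [inv_inv] at this
    have h2 : o2 (⊤ : Subgroup (C ⧸ N)) ≤ T.map π :=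
      Cfsg.Agent.MinSimple.VModule.o2_le_of_sylow (h.two.map π) (by rwa [relIndex_top_right])
    have h3 := htZ z hz _ (h2 h1)
    rw [mul_smul, mul_smul, inv_smul_eq_iff] at h3
    exact h3

end pre

variable {G : Type u} [Group G]

/-- `K ⊴ H`, `T` Sylow in `H` : `T ∩ K` is Sylow in `K` -/
theorem syl_inf' [Finite G] {T H K : Subgroup G} (hT : Syl T H) (hKH : K ≤ H)
    (hn : H ≤ normalizer (K : Set G)) : Syl (T ⊓ K) K := by
  refine ⟨inf_le_right, hT.2.1.to_le inf_le_left, fun Q hQ hQ2 hle => ?_⟩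
  obtain ⟨R, hR, hQR⟩ := exists_syl hQ2 (hQ.trans hKH)
  obtain ⟨h, hh, e⟩ := syl_conj hT hR
  have h1 : Q ≤ ZN.ChoiceBase.cj h (T ⊓ K) := by
    rw [ZN.ChoiceBase.cj_inf, e]
    refine le_inf hQR ?_
    have h2 : ZN.ChoiceBase.cj h K = K := ZN.ChoiceBase.mem_normalizer_iff_cj.1 (hn hh)
    rw [h2]
    exact hQ
  have h2 := Subgroup.card_le_of_le h1
  rw [ZN.ChoiceBase.card_cj] at h2
  exact (Subgroup.eq_of_le_of_card_ge hle h2).symm

theorem syl_of_le [Finite G] {T H K : Subgroup G} (hT : Syl T H) (hTK : T ≤ K) (hKH : K ≤ H) : Syl T K :=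
  ⟨hTK, hT.2.1, fun R hR hR2 hTR => hT.2.2 R (hR.trans hKH) hR2 hTR⟩

/-- an element of odd order with `[w, g] ∈ E`, `E` of exponent 2 centralised by `g`, commutes with `w` -/
theorem comm_of_odd {E : Subgroup G} (sq : ∀ e ∈ E, e ^ 2 = 1) {g w : G} (hgE : g ∈ centralizer (E : Set G))
    (hgo : Odd (orderOf g)) (h : g * w * g⁻¹ * w⁻¹ ∈ E) : w * g = g * w := by
  set z := g * w * g⁻¹ * w⁻¹ with hzdef
  have hgz : g * z = z * g := (mem_centralizer_iff.1 hgE z h).symm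
  have h3 : ∀ n : ℕ, g ^ n * w * (g ^ n)⁻¹ = z ^ n * w := by
    intro n
    induction n with
    | zero => simp
    | succ n ih =>
      have h4 : Commute g (z ^ n) := (show Commute g z from hgz).pow_right n
      calc g ^ (n + 1) * w * (g ^ (n + 1))⁻¹ = g * (g ^ n * w * (g ^ n)⁻¹) * g⁻¹ := by rw [pow_succ']; group
        _ = (g * z ^ n) * w * g⁻¹ := by rw [ih]; group
        _ = z ^ n * (g * w * g⁻¹ * w⁻¹) * w := by rw [h4.eq]; group
        _ = z ^ (n + 1) * w := by rw [← hzdef, pow_succ]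
  have h4 := h3 (orderOf g)
  rw [pow_orderOf_eq_one, one_mul, inv_one, mul_one] at h4
  have h5 : z ^ orderOf g = 1 := mul_right_cancel (a := z ^ orderOf g) (b := w) (c := 1) (by rw [← h4, one_mul])
  obtain ⟨k, hk⟩ := hgo
  rw [hk, pow_succ, pow_mul, sq z h, one_pow, one_mul] at h5
  have h7 : g * w * g⁻¹ = w := by
    have h8 : g * w * g⁻¹ * w⁻¹ = 1 := by rw [← hzdef]; exact h5
    exact mul_inv_eq_one.1 h8
  exact (eq_mul_of_mul_inv_eq h7).symm

/-- **the one-sided frame of THEOREM G*** -/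
structure GSt [Finite G] (C T Vi E Zj X B : Subgroup G) : Prop where
  syl : Syl T C
  KC : IsKGroup C
  CE : C ≤ normalizer (E : Set G)
  CX : C ≤ normalizer (X : Set G)
  XC : X ≤ C
  sqX : ∀ x ∈ X, x ^ 2 = 1
  EV : E ≤ Vi
  VX : Vi ≤ X
  NX : NoFF.Basic.V Zj C ≤ X
  VC : centralizer (Vi : Set G) ≤ C
  TZ : T ≤ centralizer (Zj : Set G)
  TV : T ≤ normalizer (Vi : Set G)
  root : ∀ t ∈ T, t ∈ centralizer (E : Set G) → ∀ w ∈ Vi, t * w * t⁻¹ * w⁻¹ ∈ E
  nT : C ⊓ normalizer (T : Set G) ≤ normalizer (Zj : Set G) ⊓ normalizer (Vi : Set G)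
  uni : ∀ R : Subgroup G, IsMinPar T R → R ≤ C → ¬ R ≤ centralizer (Zj : Set G) → R ≤ normalizer (Vi : Set G)
  sep : ∀ c ∈ C, ∀ m ∈ Zj, c * m * c⁻¹ * m⁻¹ ∈ E → c * m * c⁻¹ = m
  dis : Vi ⊓ (NoFF.Basic.V Zj C ⊔ E) ≤ E
  sqB : ∀ b ∈ B, b ^ 2 = 1
  BO : B ≤ o2 (C ⊓ centralizer (Zj : Set G))
  BV : B ≤ o2 (centralizer (Vi : Set G) ⊔ T)
  ex : (centralizer (B : Set G)).relIndex (NoFF.Basic.V Zj C) ≤ (centralizer (NoFF.Basic.V Zj C : Set G)).relIndex B
  mv : ¬ B ≤ centralizer (NoFF.Basic.V Zj C : Set G)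

namespace GSt

variable [Finite G] {C T Vi E Zj X B : Subgroup G} (D : GSt C T Vi E Zj X B)

include D

theorem TC : T ≤ C := D.syl.1

theorem two : IsPGroup 2 T := D.syl.2.1

theorem E_le_X : E ≤ X := D.EV.trans D.VX

theorem NE_le_X : NoFF.Basic.V Zj C ⊔ E ≤ X := sup_le D.NX D.E_le_X

theorem X_comm {x y : G} (hx : x ∈ X) (hy : y ∈ X) : x * y = y * x :=
  mem_centralizer_iff.1 (Cfsg.Agent.Omega.KL.TwoS.comm_of_sq D.sqX hy) x hx

theorem XE : ∀ x ∈ X, ∀ y ∈ E, x * y = y * x := fun _ hx _ hy => D.X_comm hx (D.E_le_X hy)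

theorem X_norm_E : X ≤ normalizer (E : Set G) := D.XC.trans D.CE

theorem conj_E {c e : G} (hc : c ∈ C) (he : e ∈ E) : c * e * c⁻¹ ∈ E := (mem_normalizer_iff.1 (D.CE hc) e).1 he

theorem Zj_le : Zj ≤ X := (le_V Zj C).trans D.NX

theorem C_norm_NE : C ≤ normalizer ((NoFF.Basic.V Zj C ⊔ E : Subgroup G) : Set G) := by
  refine le_norm_of fun c hc x hx => ?_
  obtain ⟨n, hn, e, he, rfl⟩ := exists_mul_of_mem_sup ((D.E_le_X.trans D.XC).trans (le_normalizer_V _ _)) hx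
  have e1 : c * (n * e) * c⁻¹ = (c * n * c⁻¹) * (c * e * c⁻¹) := by group
  rw [e1]
  exact mul_mem (mem_sup_left ((mem_normalizer_iff.1 (le_normalizer_V Zj C hc) n).1 hn))
    (mem_sup_right (D.conj_E hc he))

/-- (0.2) for the conjugates -/
theorem sep' {c l m : G} (hc : c ∈ C) (hl : l ∈ C) (hm : m ∈ Zj)
    (h : c * (l * m * l⁻¹) * c⁻¹ * (l * m * l⁻¹)⁻¹ ∈ E) : c * (l * m * l⁻¹) * c⁻¹ = l * m * l⁻¹ := by
  have h1 := D.sep (l⁻¹ * c * l) (mul_mem (mul_mem (inv_mem hl) hc) hl) m hm (by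
    have e : l⁻¹ * c * l * m * (l⁻¹ * c * l)⁻¹ * m⁻¹ = l⁻¹ * (c * (l * m * l⁻¹) * c⁻¹ * (l * m * l⁻¹)⁻¹) * l⁻¹⁻¹ := by group
    rw [e]
    exact D.conj_E (inv_mem hl) h)
  calc c * (l * m * l⁻¹) * c⁻¹ = l * (l⁻¹ * c * l * m * (l⁻¹ * c * l)⁻¹) * l⁻¹ := by group
    _ = l * m * l⁻¹ := by rw [h1]

/-- an element of `C` which centralises `⟨Zj^L⟩ E / E` centralises `⟨Zj^L⟩` -/
theorem cent_of_mod {L : Subgroup G} (hL : L ≤ C) {c : G} (hc : c ∈ C)
    (h : ∀ l ∈ L, ∀ m ∈ Zj, c * (l * m * l⁻¹) * c⁻¹ * (l * m * l⁻¹)⁻¹ ∈ E) :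
    c ∈ centralizer (NoFF.Basic.V Zj L : Set G) := by
  have h1 : NoFF.Basic.V Zj L ≤ centralizer ({c} : Set G) := by
    refine V_le fun l hl z hz => ?_
    rw [mem_conj] at hz
    have h2 := D.sep' hc (hL hl) hz (h l hl _ hz)
    have e : l * (l⁻¹ * z * l) * l⁻¹ = z := by group
    rw [e] at h2
    rw [mem_centralizer_singleton_iff]
    exact (eq_mul_of_mul_inv_eq h2).symm
  rw [mem_centralizer_iff]
  exact fun x hx => mem_centralizer_singleton_iff.1 (h1 hx)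

/-- `{x ∈ N E : [x, A] ≤ E}` -/
abbrev tN (A : Set G) : Subgroup G := tE (NoFF.Basic.V Zj C ⊔ E) E A fun x hx y hy => D.XE x (D.NE_le_X hx) y hy

/-- `{x ∈ X : [c, x] ∈ E}` -/
abbrev tX (c : G) : Subgroup G := tE X E ({c} : Set G) D.XE

theorem mem_tX {c x : G} : x ∈ D.tX c ↔ x ∈ X ∧ c * x * c⁻¹ * x⁻¹ ∈ E :=
  ⟨fun h => ⟨h.1, h.2 c rfl⟩, fun h => ⟨h.1, by rintro _ rfl; exact h.2⟩⟩

/-- exactness on `N E / E` -/
theorem le_E {A : Subgroup G} (hA : A ≤ C) :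
    (D.tN (A : Set G)).relIndex (NoFF.Basic.V Zj C ⊔ E) ≤ (centralizer (A : Set G)).relIndex (NoFF.Basic.V Zj C) := by
  have hXc : NoFF.Basic.V Zj C ⊔ E ≤ centralizer ((NoFF.Basic.V Zj C ⊔ E : Subgroup G) : Set G) :=
    Cfsg.Agent.Omega.KL.TwoS.comm_of_sq fun x hx => D.sqX x (D.NE_le_X hx)
  have hEt : E ≤ D.tN (A : Set G) := fun e he =>
    ⟨mem_sup_right he, fun b hb => mul_mem (D.conj_E (hA hb) he) (inv_mem he)⟩
  refine (relIndex_le_of_sup le_sup_left hXc (sup_le le_sup_left (le_trans (le_inf le_sup_right hEt) le_sup_right))).trans ?_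
  rw [← inf_relIndex_left (NoFF.Basic.V Zj C) (centralizer (A : Set G))]
  refine relIndex_anti fun x hx => ⟨mem_sup_left hx.1, fun b hb => ?_⟩
  rw [mem_centralizer_iff.1 hx.2 b hb, mul_inv_cancel_right, mul_inv_cancel]
  exact one_mem _

/-- **(NO)** on `N E / E` -/
theorem no_E (hML : ML.Final.MLK.{u, u}) {A : Subgroup G} (hA : A ≤ o2 (C ⊓ centralizer (Zj : Set G)))
    (hA2 : ∀ a ∈ A, a ^ 2 = 1) :
    (centralizer (NoFF.Basic.V Zj C : Set G)).relIndex A ≤ (D.tN (A : Set G)).relIndex (NoFF.Basic.V Zj C ⊔ E) := by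
  set N : Subgroup G := NoFF.Basic.V Zj C with hN
  have hNC : N ≤ C := D.NX.trans D.XC
  have hZC : Zj ≤ C := D.Zj_le.trans D.XC
  have hEC : E ≤ C := D.E_le_X.trans D.XC
  have hAC : A ≤ C := (hA.trans (o2_le _)).trans inf_le_left
  have hnor : (E.subgroupOf C).Normal := normal_subgroupOf_of_le_normalizer D.CE
  let π : C →* C ⧸ E.subgroupOf C := QuotientGroup.mk' (E.subgroupOf C)
  have hπ : Function.Surjective π := QuotientGroup.mk'_surjective _
  have hone : ∀ x y : C, π x = π y ↔ (x : G) * (y : G)⁻¹ ∈ E := by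
    intro x y
    rw [← mul_inv_eq_one, ← map_inv, ← map_mul, ← MonoidHom.mem_ker, QuotientGroup.ker_mk']
    exact Iff.rfl
  have hcom : ∀ x y : C, π x * π y = π y * π x ↔ (x : G) * y * (x : G)⁻¹ * (y : G)⁻¹ ∈ E := by
    intro x y
    rw [← map_mul, ← map_mul, hone]
    have e : ((x * y : C) : G) * ((y * x : C) : G)⁻¹ = (x : G) * y * (x : G)⁻¹ * (y : G)⁻¹ := by
      push_cast; group
    rw [e]
  set Zb : Subgroup (C ⧸ E.subgroupOf C) := (Zj.subgroupOf C).map π with hZb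
  set Tb : Subgroup (C ⧸ E.subgroupOf C) := (T.subgroupOf C).map π with hTb
  set Ab : Subgroup (C ⧸ E.subgroupOf C) := (A.subgroupOf C).map π with hAb
  -- `⟨Zb^C⟩`
  have hV : NoFF.Basic.V Zb (⊤ : Subgroup (C ⧸ E.subgroupOf C)) = ((N ⊔ E).subgroupOf C).map π := by
    apply le_antisymm
    · refine V_le_of ?_ ?_
      · exact map_mono fun z hz => mem_subgroupOf.2 (mem_sup_left ((le_V Zj C) (mem_subgroupOf.1 hz)))
      · refine le_norm_of fun g _ x hx => ?_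
        obtain ⟨c, rfl⟩ := hπ g
        obtain ⟨y, hy, rfl⟩ := hx
        rw [← map_inv, ← map_mul, ← map_mul]
        exact mem_map_of_mem π (mem_subgroupOf.2 ((mem_normalizer_iff.1 (D.C_norm_NE c.2) _).1 (mem_subgroupOf.1 hy)))
    · let U : Subgroup G := ((NoFF.Basic.V Zb (⊤ : Subgroup (C ⧸ E.subgroupOf C))).comap π).map C.subtype
      have hU : ∀ x : C, (x : G) ∈ U ↔ π x ∈ NoFF.Basic.V Zb (⊤ : Subgroup (C ⧸ E.subgroupOf C)) := by
        intro x
        constructor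
        · rintro ⟨y, hy, hyx⟩
          rw [← (Subtype.ext hyx : y = x)]
          exact hy
        · exact fun hx => ⟨x, hx, rfl⟩
      have h1 : N ⊔ E ≤ U := by
        refine sup_le (V_le_of (fun z hz => ?_) (le_norm_of fun c hc x hx => ?_)) fun e he => ?_
        · exact (hU ⟨z, hZC hz⟩).2 (le_V _ _ (mem_map_of_mem π (mem_subgroupOf.2 hz)))
        · obtain ⟨y, hy, rfl⟩ := hx
          have h2 := (mem_normalizer_iff.1 (le_normalizer_V Zb (⊤ : Subgroup (C ⧸ E.subgroupOf C))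
            (mem_top (π ⟨c, hc⟩))) (π y)).1 hy
          rw [← map_inv, ← map_mul, ← map_mul] at h2
          exact (hU (⟨c, hc⟩ * y * ⟨c, hc⟩⁻¹)).2 h2
        · refine (hU ⟨e, hEC he⟩).2 ?_
          have h2 : π ⟨e, hEC he⟩ = 1 := by
            rw [← map_one π, hone]
            simpa using he
          rw [h2]
          exact one_mem _
      rintro _ ⟨y, hy, rfl⟩
      exact (hU y).1 (h1 (mem_subgroupOf.1 hy))
  -- centralisers
  have hcZ : centralizer (Zb : Set (C ⧸ E.subgroupOf C)) = ((C ⊓ centralizer (Zj : Set G)).subgroupOf C).map π := by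
    apply le_antisymm
    · intro g hg
      obtain ⟨c, rfl⟩ := hπ g
      refine mem_map_of_mem π (mem_subgroupOf.2 ⟨c.2, mem_centralizer_iff.2 fun z hz => ?_⟩)
      have h1 := mem_centralizer_iff.1 hg (π ⟨z, hZC hz⟩) (mem_map_of_mem π (mem_subgroupOf.2 hz))
      have h2 := (hcom c ⟨z, hZC hz⟩).1 h1.symm
      exact (eq_mul_of_mul_inv_eq (D.sep c c.2 z hz h2)).symm
    · rintro _ ⟨c, hc, rfl⟩
      rw [mem_centralizer_iff]
      rintro _ ⟨z, hz, rfl⟩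
      rw [← map_mul, ← map_mul]
      exact congrArg π (Subtype.ext (mem_centralizer_iff.1 (mem_subgroupOf.1 hc).2 z (mem_subgroupOf.1 hz)))
  have key := FlagNO.flag_no hML (H := (⊤ : Subgroup (C ⧸ E.subgroupOf C))) (Z := Zb) (T := Tb) (B := Ab)
    ((D.two.comap_of_injective C.subtype C.subtype_injective).map π) le_top (by
      rw [relIndex_top_right]
      exact fun h2 => syl_not_dvd D.syl (h2.trans (index_map_dvd _ hπ))) (by
      rw [hcZ]
      exact map_mono fun t ht => mem_subgroupOf.2 ⟨t.2, D.TZ (mem_subgroupOf.1 ht)⟩)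
    (ML.Final.sec_KG.sub _ (ML.Final.sec_KG.quo C D.KC _) ⊤) (by
      rw [hV]
      rintro _ ⟨x, hx, rfl⟩
      have h1 : x ^ 2 = 1 := Subtype.ext (D.sqX x (D.NE_le_X (mem_subgroupOf.1 hx)))
      rw [← map_pow, h1, map_one]) (by
      rw [top_inf_eq, hcZ]
      have h1 : Ab ≤ ((o2 (C ⊓ centralizer (Zj : Set G))).subgroupOf C).map π :=
        map_mono fun a ha => mem_subgroupOf.2 (hA (mem_subgroupOf.1 ha))
      refine h1.trans (le_o2 (map_mono fun a ha => mem_subgroupOf.2 (o2_le _ (mem_subgroupOf.1 ha)))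
        (((o2_isPGroup _).comap_of_injective C.subtype C.subtype_injective).map π) ?_)
      refine (map_mono ?_).trans (le_normalizer_map π)
      intro c hc
      rw [mem_normalizer_iff]
      intro x
      exact mem_normalizer_iff.1 (le_normalizer_o2 _ (mem_subgroupOf.1 hc)) (x : G)) (by
      rintro _ ⟨x, hx, rfl⟩
      have h1 : x ^ 2 = 1 := Subtype.ext (hA2 x (mem_subgroupOf.1 hx))
      rw [← map_pow, h1, map_one])
  -- translate
  have e1 : (centralizer (N : Set G)).relIndex A ≤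
      (centralizer (NoFF.Basic.V Zb (⊤ : Subgroup (C ⧸ E.subgroupOf C)) : Set (C ⧸ E.subgroupOf C))).relIndex Ab := by
    rw [hAb, ← relIndex_comap, ← relIndex_subgroupOf hAC]
    rw [← inf_relIndex_left (A.subgroupOf C)
      ((centralizer (NoFF.Basic.V Zb (⊤ : Subgroup (C ⧸ E.subgroupOf C)) : Set (C ⧸ E.subgroupOf C))).comap π)]
    refine relIndex_anti fun c hc => ?_
    refine mem_subgroupOf.2 (D.cent_of_mod (L := C) le_rfl c.2 fun l hl m hm => ?_)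
    have h1 : l * m * l⁻¹ ∈ N := Z_le_V hl (mem_conj.2 (by
      have e : l⁻¹ * (l * m * l⁻¹) * l = m := by group
      rwa [e]))
    have h2 : π ⟨l * m * l⁻¹, hNC h1⟩ ∈ NoFF.Basic.V Zb (⊤ : Subgroup (C ⧸ E.subgroupOf C)) := by
      rw [hV]
      exact mem_map_of_mem π (mem_subgroupOf.2 (mem_sup_left h1))
    have h3 := mem_centralizer_iff.1 (mem_comap.1 hc.2) _ h2
    exact (hcom c ⟨l * m * l⁻¹, hNC h1⟩).1 h3.symm
  have e2 : (centralizer (Ab : Set (C ⧸ E.subgroupOf C))).relIndex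
      (NoFF.Basic.V Zb (⊤ : Subgroup (C ⧸ E.subgroupOf C))) = (D.tN (A : Set G)).relIndex (N ⊔ E) := by
    rw [hV, ← relIndex_comap, ← relIndex_subgroupOf (sup_le hNC hEC), ← inf_relIndex_right,
      ← inf_relIndex_right ((D.tN (A : Set G)).subgroupOf C)]
    congr 1
    ext x
    constructor
    · rintro ⟨h1, h2⟩
      refine ⟨mem_subgroupOf.2 ⟨mem_subgroupOf.1 h2, fun a ha => ?_⟩, h2⟩
      have h3 := mem_centralizer_iff.1 (mem_comap.1 h1) (π ⟨a, hAC ha⟩) (mem_map_of_mem π (mem_subgroupOf.2 ha))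
      exact (hcom ⟨a, hAC ha⟩ x).1 h3
    · rintro ⟨h1, h2⟩
      refine ⟨mem_comap.2 (mem_centralizer_iff.2 ?_), h2⟩
      rintro _ ⟨a, ha, rfl⟩
      exact (hcom a x).2 ((mem_subgroupOf.1 h1).2 a (mem_subgroupOf.1 ha))
  exact (e1.trans key).trans e2.le

/-- **the input of THEOREM KL*(q)** -/
theorem preL (hML : ML.Final.MLK.{u, u}) {K : Subgroup G} (hKC : K ≤ C) (hKE : K ≤ centralizer (E : Set G))
    (hCK : C ≤ normalizer (K : Set G)) (hKX : ∀ k ∈ K, ∀ x ∈ X, k * x * k⁻¹ * x⁻¹ ∈ NoFF.Basic.V Zj C ⊔ E)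
    (hNK : NoFF.Basic.V Zj C ≤ NoFF.Basic.V Zj (K ⊔ T)) :
    ∃ (C' M : Type u) (_ : Group C') (_ : Finite C') (_ : Group M) (_ : Finite M) (_ : MulDistribMulAction C' M)
      (T' A' : Subgroup C') (Z' Y' : Subgroup M), PreL T' A' Z' Y' := by
  set N : Subgroup G := NoFF.Basic.V Zj C with hNdef
  set H : Subgroup G := K ⊔ T with hHdef
  set NE : Subgroup G := N ⊔ E with hNE
  have hTC := D.TC
  have hHC : H ≤ C := sup_le hKC hTC
  have hTH : T ≤ H := le_sup_right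
  have hKH : K ≤ H := le_sup_left
  have hHK : H ≤ normalizer (K : Set G) := hHC.trans hCK
  have hSH : Syl T H := syl_of_le D.syl hTH hHC
  have hBT : B ≤ T := D.BO.trans (o2_le_syl (syl_of_le D.syl (le_inf hTC D.TZ) inf_le_left))
  have hBH : B ≤ H := hBT.trans hTH
  have hBC : B ≤ C := hBH.trans hHC
  have hX : H ≤ normalizer (NE : Set G) := hHC.trans D.C_norm_NE
  have hY : H ≤ normalizer (E : Set G) := hHC.trans D.CE
  have hXY : NE ≤ normalizer (E : Set G) := D.NE_le_X.trans D.X_norm_E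
  have hEsq : ∀ e ∈ E, e ^ 2 = 1 := fun e he => D.sqX e (D.E_le_X he)
  -- the elements of odd order of `H`
  have hoddK : ∀ g : H, Odd (orderOf g) → (g : G) ∈ K := by
    intro g hg
    refine Cfsg.Agent.MinSimple.VModule.oddGen_le_of_sup (P := H) (K := K) (S := T) hHK le_rfl hTH hKH D.two ?_
    exact Cfsg.Agent.MinSimple.VModule.mem_oddGen g.2 (by rwa [orderOf_coe])
  have hNm : (E.subgroupOf NE).Normal := normal_subgroupOf_of_le_normalizer hXY
  let _ := conjAct hX hY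
  let mk : NE →* NE ⧸ E.subgroupOf NE := QuotientGroup.mk' (E.subgroupOf NE)
  have hmk : Function.Surjective mk := QuotientGroup.mk'_surjective _
  have hsm : ∀ (g : H) (x : NE) (hx : (g : G) * x * (g : G)⁻¹ ∈ NE), g • mk x = mk ⟨(g : G) * x * (g : G)⁻¹, hx⟩ :=
    fun _ _ _ => rfl
  have hmem : ∀ (g : H) (x : NE), (g : G) * x * (g : G)⁻¹ ∈ NE := fun g x =>
    (mem_normalizer_iff.1 (hX g.2) x).1 x.2
  have hone : ∀ x y : NE, mk x = mk y ↔ (x : G) * (y : G)⁻¹ ∈ E := by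
    intro x y
    rw [← mul_inv_eq_one, ← map_inv, ← map_mul, ← MonoidHom.mem_ker, QuotientGroup.ker_mk']
    exact Iff.rfl
  have hfix : ∀ (g : H) (x : NE), g • mk x = mk x ↔ (g : G) * x * (g : G)⁻¹ * (x : G)⁻¹ ∈ E := by
    intro g x
    rw [hsm g x (hmem g x), hone]
  have hZN : Zj ≤ NE := (le_V _ _).trans le_sup_left
  -- the vectors
  have hvec : ∀ w ∈ Vi, ∃ w0 ∈ X, w0 * w⁻¹ ∈ NE ∧ ∀ g ∈ K, g * w0 * g⁻¹ * w0⁻¹ ∈ E := by
    intro w hw
    exact exists_fix_sec (C := K) (X := X) (Y := E) (N := NE) (T := T ⊓ K) (hKC.trans D.CX) (hKC.trans D.CE) D.X_norm_E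
      le_sup_right (fun x hx => by
        have h1 := D.sqX x hx
        rw [pow_two] at h1
        rw [h1]
        exact one_mem _)
      (syl_not_dvd (syl_inf' hSH hKH hHK)) (D.VX hw) (fun t ht => D.root t ht.1 (hKE ht.2) w hw)
      fun g hg => hKX g hg w (D.VX hw)
  -- `Z'`, `Y'`
  let Z' : Subgroup (NE ⧸ E.subgroupOf NE) := (Zj.subgroupOf NE).map mk
  let YS : Set (NE ⧸ E.subgroupOf NE) := {m | ∃ w w0, ∃ (_ : w ∈ Vi) (_ : w0 ∈ X)
    (_ : ∀ g ∈ K, g * w0 * g⁻¹ * w0⁻¹ ∈ E) (h : w0 * w⁻¹ ∈ NE), m = mk ⟨w0 * w⁻¹, h⟩}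
  let Y' : Subgroup (NE ⧸ E.subgroupOf NE) := closure YS
  have hYfix : ∀ g : H, (g : G) ∈ K → (∀ w ∈ Vi, (g : G) * w * (g : G)⁻¹ * w⁻¹ ∈ E) → ∀ y ∈ Y', g • y = y := by
    intro g hgK hg y hy
    have h1 : Y' ≤ cv (NE ⧸ E.subgroupOf NE) ({g} : Set H) := by
      change closure YS ≤ _
      rw [closure_le]
      rintro _ ⟨w, w0, hw, hw0, hw0K, hh, rfl⟩ a ha
      rw [Set.mem_singleton_iff.1 ha, hfix]
      have h2 : w ∈ D.tX g := D.mem_tX.2 ⟨D.VX hw, hg w hw⟩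
      have h3 : w0 ∈ D.tX g := D.mem_tX.2 ⟨hw0, hw0K g hgK⟩
      exact (D.mem_tX.1 (mul_mem h3 (inv_mem h2))).2
    exact h1 hy g rfl
  have hYfix2 : ∀ g : H, (g : G) ∈ K → (∀ y ∈ Y', g • y = y) → ∀ w ∈ Vi, (g : G) * w * (g : G)⁻¹ * w⁻¹ ∈ E := by
    intro g hgK hg w hw
    obtain ⟨w0, hw0, hw1, hw2⟩ := hvec w hw
    have h1 := hg (mk ⟨w0 * w⁻¹, hw1⟩) (subset_closure ⟨w, w0, hw, hw0, hw2, hw1, rfl⟩)
    rw [hfix] at h1
    have h2 : w0 * w⁻¹ ∈ D.tX g := D.mem_tX.2 ⟨D.NE_le_X hw1, h1⟩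
    have h3 : w0 ∈ D.tX g := D.mem_tX.2 ⟨hw0, hw2 g hgK⟩
    have h4 : w ∈ D.tX g := by
      have e : w = (w0 * w⁻¹)⁻¹ * w0 := by group
      rw [e]
      exact mul_mem (inv_mem h2) h3
    exact (D.mem_tX.1 h4).2
  have hYT : ∀ g : H, (g : G) ∈ T → ∀ y ∈ Y', g • y ∈ Y' := by
    intro g hgT y hy
    have h1 : Y' ≤ Y'.comap (MulDistribMulAction.toMonoidHom (NE ⧸ E.subgroupOf NE) g) := by
      change closure YS ≤ _
      rw [closure_le]
      rintro _ ⟨w, w0, hw, hw0, hw0K, hh, rfl⟩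
      change g • mk ⟨w0 * w⁻¹, hh⟩ ∈ Y'
      have hgC : (g : G) ∈ C := hHC g.2
      have h2 : (g : G) * w * (g : G)⁻¹ ∈ Vi := (mem_normalizer_iff.1 (D.TV hgT) w).1 hw
      have h3 : (g : G) * w0 * (g : G)⁻¹ ∈ X := (mem_normalizer_iff.1 (D.CX hgC) w0).1 hw0
      have e : (g : G) * (w0 * w⁻¹) * (g : G)⁻¹ = ((g : G) * w0 * (g : G)⁻¹) * ((g : G) * w * (g : G)⁻¹)⁻¹ := by group
      have h4 : ((g : G) * w0 * (g : G)⁻¹) * ((g : G) * w * (g : G)⁻¹)⁻¹ ∈ NE := by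
        rw [← e]
        exact hmem g ⟨w0 * w⁻¹, hh⟩
      rw [hsm g _ (hmem g _)]
      refine subset_closure ⟨(g : G) * w * (g : G)⁻¹, (g : G) * w0 * (g : G)⁻¹, h2, h3, fun k hk => ?_, h4, ?_⟩
      · have h5 : (g : G)⁻¹ * k * (g : G) ∈ K := by
          have h6 := (mem_normalizer_iff.1 (hCK (inv_mem hgC)) k).1 hk
          rwa [inv_inv] at h6
        have h7 := D.conj_E hgC (hw0K _ h5)
        have e2 : k * ((g : G) * w0 * (g : G)⁻¹) * k⁻¹ * ((g : G) * w0 * (g : G)⁻¹)⁻¹ =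
          (g : G) * ((g : G)⁻¹ * k * (g : G) * w0 * ((g : G)⁻¹ * k * (g : G))⁻¹ * w0⁻¹) * (g : G)⁻¹ := by group
        rw [e2]
        exact h7
      · exact congrArg mk (Subtype.ext e)
    exact h1 hy
  have hnT : ∀ g : H, g ∈ normalizer ((T.subgroupOf H : Subgroup H) : Set H) → (g : G) ∈ normalizer (T : Set G) := by
    intro g hg
    rw [mem_normalizer_iff]
    intro t
    constructor
    · intro ht
      exact (mem_normalizer_iff.1 hg ⟨t, hTH ht⟩).1 ht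
    · intro ht
      have h1 : (g : G)⁻¹ * ((g : G) * t * (g : G)⁻¹) * (g : G)⁻¹⁻¹ ∈ T :=
        (mem_normalizer_iff.1 (inv_mem hg) ⟨(g : G) * t * (g : G)⁻¹, hTH ht⟩).1 ht
      have e : (g : G)⁻¹ * ((g : G) * t * (g : G)⁻¹) * (g : G)⁻¹⁻¹ = t := by group
      rwa [e] at h1
  -- the kernel
  have hfxt : fxr H (⊤ : Subgroup (NE ⧸ E.subgroupOf NE)) = (centralizer (N : Set G)).subgroupOf H := by
    ext c
    rw [mem_subgroupOf]
    constructor
    · intro h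
      refine D.cent_of_mod (L := C) le_rfl (hHC c.2) fun l hl m hmm => ?_
      have h1 : l * m * l⁻¹ ∈ NE := mem_sup_left (Z_le_V hl (mem_conj.2 (by
        have e : l⁻¹ * (l * m * l⁻¹) * l = m := by group
        rwa [e])))
      exact (hfix c ⟨_, h1⟩).1 (h _ (mem_top _))
    · intro h m _
      obtain ⟨x, rfl⟩ := hmk m
      rw [hfix]
      have h1 : NE ≤ D.tX (c : G) := by
        refine sup_le (fun y hy => D.mem_tX.2 ⟨D.NX hy, ?_⟩) fun y hy => D.mem_tX.2 ⟨D.E_le_X hy, ?_⟩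
        · rw [← mem_centralizer_iff.1 h y hy, mul_inv_cancel_right, mul_inv_cancel]
          exact one_mem _
        · exact mul_mem (D.conj_E (hHC c.2) hy) (inv_mem hy)
      exact (D.mem_tX.1 (h1 x.2)).2
  have hcv : ∀ S : Subgroup H, (cv (NE ⧸ E.subgroupOf NE) (S : Set H)).index =
      (D.tN ((S.map H.subtype : Subgroup G) : Set G)).relIndex NE := by
    intro S
    rw [← index_comap_of_surjective _ hmk]
    change _ = ((D.tN ((S.map H.subtype : Subgroup G) : Set G)).subgroupOf NE).index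
    congr 1
    ext x
    rw [mem_subgroupOf, mem_comap]
    constructor
    · intro h
      refine ⟨x.2, ?_⟩
      rintro _ ⟨s, hs, rfl⟩
      exact (hfix s x).1 (h s hs)
    · rintro ⟨-, h⟩ s hs
      exact (hfix s x).2 (h s ⟨s, hs, rfl⟩)
  refine ⟨H, NE ⧸ E.subgroupOf NE, inferInstance, inferInstance, inferInstance, inferInstance, inferInstance,
    T.subgroupOf H, B.subgroupOf H, Z', Y', ?_⟩
  refine ⟨?_, ?_, ?_, ?_, ?_, ?_, ?_, ?_, ?_, ?_, ?_, ?_, ?_, ?_, ?_, kgroup_mono D.KC hHC⟩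
  · intro m
    obtain ⟨x, rfl⟩ := hmk m
    rw [← map_mul, ← map_one mk, hone]
    have h1 := D.sqX x (D.NE_le_X x.2)
    rw [pow_two] at h1
    simp [h1]
  · exact D.two.comap_of_injective H.subtype H.subtype_injective
  · exact syl_not_dvd hSH
  · rintro _ ⟨z, hz, rfl⟩ t ht
    rw [hfix, ← mem_centralizer_iff.1 (D.TZ (mem_subgroupOf.1 ht)) z (mem_subgroupOf.1 hz),
      mul_inv_cancel_right, mul_inv_cancel]
    exact one_mem _
  · rintro g hg _ ⟨z, hz, rfl⟩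
    rw [hsm g z (hmem g z)]
    exact mem_map_of_mem mk (mem_subgroupOf.2 ((mem_normalizer_iff.1 (D.nT ⟨hHC g.2, hnT g hg⟩).1 _).1
      (mem_subgroupOf.1 hz)))
  · exact fun t ht w hw => hYT t (mem_subgroupOf.1 ht) w hw
  · intro g hg hgo
    have hgK := hoddK g hgo
    refine hYfix g hgK fun w hw => ?_
    have hgV := (D.nT ⟨hHC g.2, hnT g hg⟩).2
    exact D.dis (mem_inf.2 ⟨mul_mem ((mem_normalizer_iff.1 hgV w).1 hw) (inv_mem hw), hKX g hgK w (D.VX hw)⟩)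
  · intro P hP
    have hR := Plug.minPar_map hTH hP
    have hRC : P.map H.subtype ≤ C := (map_subtype_le P).trans hHC
    by_cases hRm : P.map H.subtype ≤ centralizer (Zj : Set G)
    · left
      rintro _ ⟨z, hz, rfl⟩ p hp
      have h1 : (z : G) * (p : G) = p * z :=
        mem_centralizer_iff.1 (hRm (mem_map_of_mem H.subtype hp)) z (mem_subgroupOf.1 hz)
      rw [hfix, ← h1, mul_inv_cancel_right, mul_inv_cancel]
      exact one_mem _
    · right
      intro g hg hgo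
      have hgK := hoddK g hgo
      have hgV : (g : G) ∈ normalizer (Vi : Set G) := D.uni _ hR hRC hRm (mem_map_of_mem H.subtype hg)
      refine hYfix g hgK fun w hw => ?_
      exact D.dis (mem_inf.2 ⟨mul_mem ((mem_normalizer_iff.1 hgV w).1 hw) (inv_mem hw), hKX g hgK w (D.VX hw)⟩)
  · intro a ha
    apply Subtype.ext
    have h := D.sqB a (mem_subgroupOf.1 ha)
    rw [pow_two] at h
    exact h
  · refine Plug.sub_o2 (S := C ⊓ centralizer (Zj : Set G)) (fun c => ?_) D.BO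
    constructor
    · intro h
      refine ⟨hHC c.2, mem_centralizer_iff.2 fun z hz => ?_⟩
      have h1 := (hfix c ⟨z, hZN hz⟩).1 (h _ (mem_map_of_mem mk (mem_subgroupOf.2 hz)))
      exact (eq_mul_of_mul_inv_eq (D.sep c (hHC c.2) z hz h1)).symm
    · rintro h _ ⟨z, hz, rfl⟩
      rw [hfix, ← mem_centralizer_iff.1 h.2 z (mem_subgroupOf.1 hz), mul_inv_cancel_right, mul_inv_cancel]
      exact one_mem _
  · -- `B ≤ O₂(C_H(Y) T)`
    set F : Subgroup H := fxr H Y' ⊔ T.subgroupOf H with hF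
    have hTF : T.subgroupOf H ≤ F := le_sup_right
    have hT2 : IsPGroup 2 (T.subgroupOf H) := D.two.comap_of_injective H.subtype H.subtype_injective
    have hTY : T.subgroupOf H ≤ normalizer (fxr H Y' : Set H) := by
      refine le_norm_of fun t ht g hg y hy => ?_
      have h1 := hYT t⁻¹ (inv_mem (mem_subgroupOf.1 ht)) y hy
      rw [mul_smul, mul_smul, hg _ h1, smul_inv_smul]
    have hFn : F ≤ normalizer (fxr H Y' : Set H) := sup_le le_normalizer hTY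
    have hF2 : ¬ 2 ∣ (T.subgroupOf H).relIndex F := fun h2 =>
      syl_not_dvd hSH (h2.trans (relIndex_dvd_index_of_le hTF))
    have hFH : F ≤ (centralizer (Vi : Set G) ⊔ T).subgroupOf H := by
      rw [← Star.Core.oddGen_sup hTF hF2]
      refine sup_le ?_ fun t ht => mem_subgroupOf.2 (mem_sup_right (mem_subgroupOf.1 ht))
      rw [oddGen_def, closure_le]
      rintro g ⟨hgF, hgo⟩
      have hgY : g ∈ fxr H Y' := Cfsg.Agent.MinSimple.VModule.oddGen_le_of_sup (P := F) (K := fxr H Y')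
        (S := T.subgroupOf H) hFn le_rfl hTF le_sup_left hT2 (Cfsg.Agent.MinSimple.VModule.mem_oddGen hgF hgo)
      have hgK := hoddK g hgo
      refine mem_subgroupOf.2 (mem_sup_left (mem_centralizer_iff.2 fun w hw => ?_))
      exact comm_of_odd hEsq (hKE hgK) (by rwa [orderOf_coe]) (hYfix2 g hgK hgY w hw)
    set O : Subgroup H := (o2 (centralizer (Vi : Set G) ⊔ T)).subgroupOf H with hO
    have h1 : O ⊓ F ≤ o2 F := by
      refine le_o2 inf_le_right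
        (((o2_isPGroup _).comap_of_injective H.subtype H.subtype_injective).to_le inf_le_left) ?_
      refine le_norm_of fun f hf q hq => ⟨?_, F.mul_mem (F.mul_mem hf hq.2) (F.inv_mem hf)⟩
      exact mem_subgroupOf.2 ((mem_normalizer_iff.1 (le_normalizer_o2 _ (mem_subgroupOf.1 (hFH hf))) _).1
        (mem_subgroupOf.1 hq.1))
    refine le_trans (le_inf ?_ ?_) h1
    · exact fun b hb => mem_subgroupOf.2 (D.BV (mem_subgroupOf.1 hb))
    · exact le_trans (fun b hb => mem_subgroupOf.2 (hBT (mem_subgroupOf.1 hb))) hTF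
  · intro a ha hc m
    have h1 : (a : G) ∈ centralizer (N : Set G) := by
      refine centralizer_le hNK ?_
      refine D.cent_of_mod hHC (hHC a.2) fun l hl z hz => ?_
      have h2 := hc ⟨l, hl⟩ (mk ⟨z, hZN hz⟩) (mem_map_of_mem mk (mem_subgroupOf.2 hz))
      rw [hsm ⟨l, hl⟩ _ (hmem _ _), hfix] at h2
      exact h2
    have h3 : a ∈ fxr H (⊤ : Subgroup (NE ⧸ E.subgroupOf NE)) := by
      rw [hfxt]
      exact mem_subgroupOf.2 h1
    exact h3 m (mem_top _)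
  · by_contra hc
    push Not at hc
    apply D.mv
    intro b hb
    have h3 : (⟨b, hBH hb⟩ : H) ∈ fxr H (⊤ : Subgroup (NE ⧸ E.subgroupOf NE)) := fun m _ =>
      hc ⟨b, hBH hb⟩ (mem_subgroupOf.2 hb) m
    rw [hfxt] at h3
    exact mem_subgroupOf.1 h3
  · intro S hS
    have hSB : S.map H.subtype ≤ B := by
      rintro _ ⟨a, ha, rfl⟩
      exact mem_subgroupOf.1 (hS ha)
    have e1 : (fxr H (⊤ : Subgroup (NE ⧸ E.subgroupOf NE))).relIndex S =
        (centralizer (N : Set G)).relIndex (S.map H.subtype) := by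
      rw [hfxt, subgroupOf, relIndex_comap]
    rw [e1, hcv]
    exact D.no_E hML (hSB.trans D.BO) fun b hb => D.sqB b (hSB hb)
  · have e : (B.subgroupOf H).map H.subtype = B := by
      rw [subgroupOf_map_subtype, inf_eq_left.2 hBH]
    rw [hcv, hfxt, relIndex_subgroupOf hBH, e]
    exact (D.le_E hBC).trans D.ex

/-- **THEOREM G***, the machine -/
theorem false_of (hML : ML.Final.MLK.{u, u}) (hE : ML.Ex.Two.Ext.{u, u}) {K : Subgroup G} (hKC : K ≤ C)
    (hKE : K ≤ centralizer (E : Set G)) (hCK : C ≤ normalizer (K : Set G))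
    (hKX : ∀ k ∈ K, ∀ x ∈ X, k * x * k⁻¹ * x⁻¹ ∈ NoFF.Basic.V Zj C ⊔ E)
    (hNK : NoFF.Basic.V Zj C ≤ NoFF.Basic.V Zj (K ⊔ T)) : False := by
  obtain ⟨C', M, _, _, _, _, _, T', A', Z', Y', hP⟩ := D.preL hML hKC hKE hCK hKX hNK
  obtain ⟨H, _, _, _, T'', A'', hI⟩ := hP.inp
  exact hI.false_of hML hE

/-- `K = C_{C_C(E)}(X / N E)` -/
def KK : Subgroup G where
  carrier := {g | g ∈ C ⊓ centralizer (E : Set G) ∧ ∀ x ∈ X, g * x * g⁻¹ * x⁻¹ ∈ NoFF.Basic.V Zj C ⊔ E}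
  one_mem' := ⟨one_mem _, fun x _ => by simp⟩
  mul_mem' := by
    rintro a b ⟨ha, ha'⟩ ⟨hb, hb'⟩
    refine ⟨mul_mem ha hb, fun x hx => ?_⟩
    have e : a * b * x * (a * b)⁻¹ * x⁻¹ = (a * (b * x * b⁻¹ * x⁻¹) * a⁻¹) * (a * x * a⁻¹ * x⁻¹) := by group
    rw [e]
    exact mul_mem ((mem_normalizer_iff.1 (D.C_norm_NE ha.1) _).1 (hb' x hx)) (ha' x hx)
  inv_mem' := by
    rintro a ⟨ha, ha'⟩
    refine ⟨inv_mem ha, fun x hx => ?_⟩
    have e : a⁻¹ * x * a⁻¹⁻¹ * x⁻¹ = a⁻¹ * (a * x * a⁻¹ * x⁻¹)⁻¹ * a⁻¹⁻¹ := by group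
    rw [e]
    exact (mem_normalizer_iff.1 (D.C_norm_NE (inv_mem ha.1)) _).1 (inv_mem (ha' x hx))

theorem KK_le : D.KK ≤ C := fun _ h => h.1.1

theorem KK_cent : D.KK ≤ centralizer (E : Set G) := fun _ h => h.1.2

theorem C_norm_KK : C ≤ normalizer (D.KK : Set G) := by
  refine le_norm_of fun c hc g hg => ?_
  refine ⟨⟨C.mul_mem (C.mul_mem hc hg.1.1) (C.inv_mem hc), (mem_normalizer_iff.1 (norm_cent D.CE hc) g).1 hg.1.2⟩,
    fun x hx => ?_⟩
  have e : c * g * c⁻¹ * x * (c * g * c⁻¹)⁻¹ * x⁻¹ = c * (g * (c⁻¹ * x * c⁻¹⁻¹) * g⁻¹ * (c⁻¹ * x * c⁻¹⁻¹)⁻¹) * c⁻¹ := by group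
  rw [e]
  exact (mem_normalizer_iff.1 (D.C_norm_NE hc) _).1
    (hg.2 _ ((mem_normalizer_iff.1 (D.CX (inv_mem hc)) x).1 hx))

/-- **(G1)** with LEMMA 0 as a hypothesis -/
theorem g1 (hML : ML.Final.MLK.{u, u}) (hE : ML.Ex.Two.Ext.{u, u})
    (hL : ∀ K A : Subgroup G, K ≤ C → C ≤ normalizer (K : Set G) → A ≤ K → IsPGroup 2 A →
      ¬ A ≤ centralizer (NoFF.Basic.V Zj C : Set G) → NoFF.Basic.V Zj C ≤ NoFF.Basic.V Zj (K ⊔ T))
    {A : Subgroup G} (hAC : A ≤ C) (hA : A ≤ centralizer (E : Set G)) (hA2 : IsPGroup 2 A)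
    (h : ∀ a ∈ A, ∀ x ∈ X, a * x * a⁻¹ * x⁻¹ ∈ NoFF.Basic.V Zj C ⊔ E) : A ≤ centralizer (NoFF.Basic.V Zj C : Set G) := by
  by_contra hm
  exact D.false_of hML hE D.KK_le D.KK_cent D.C_norm_KK (fun k hk => hk.2)
    (hL D.KK A D.KK_le D.C_norm_KK (fun a ha => ⟨⟨hAC ha, hA ha⟩, h a ha⟩) hA2 hm)

end GSt

end Cfsg.Agent.Omega.KL.GLine
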