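import Cfsg.Agent.Omega.KL.GLine.ToM
import Cfsg.Agent.Omega.KL.TwoZ.LFrEnd
import Cfsg.Agent.Omega.KL.TwoZ.LineBf
import Cfsg.Agent.Omega.NOThreeL.RRed.InstLW

/-!
# Two natural blocks with field automorphisms: `LFr` with coordinates (`NatS`) is impossible

**`LFr.dead`** : all inputs of `LFrW.false_of_g3` (helper401) are theorems: (G1), (G3) (`ToM.lean`), `bf` (helper916),
the tori (helper19, helper640).
-/

set_option autoImplicit false
set_option linter.unusedSectionVars false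

namespace Cfsg.Agent.Omega.KL.TwoZ.Line

open Subgroup Cfsg Cfsg.Agent.Omega.MinPar
open Cfsg.Agent.ZN (o2 zc)
open Cfsg.Agent.MinSimple.MinParabolic (IsMinPar)
open Cfsg.Agent.Omega.NOThreeL.RRed (NatS)
open Cfsg.Agent.Omega.NOThreeL.RRed.InstL (torZ_of_natS torU_of_natS lfrw_of)
open Cfsg.Agent.Omega.KL.TwoZ (CC)
open Cfsg.Agent.Omega.OM
open scoped Pointwise

universe u

variable {G : Type u} [Group G] [Finite G] {S : Sylow 2 G} {V Z l : Fin 2 → Subgroup G}

/-- **two natural blocks with field automorphisms: contradiction** -/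
theorem LFr.dead (D : LFr S V Z l) (hML : ML.Final.MLK.{u, u}) (hE : ML.Ex.Two.Ext.{u, u})
    (hM : StarM.NoInpM.{u, u}) (hK : ∀ i, IsKGroup (CC Z i))
    (hN : ∀ i, ∃ (F : Type) (_ : Field F) (_ : Finite F) (_ : CharP F 2) (P : Subgroup G)
      (_ : NatS F (S : Subgroup G) P (V i) (V (i + 1)) (l i)), IsMinPar (S : Subgroup G) P) : False := by
  have hN' : ∀ i, ∃ (F : Type) (_ : Field F) (_ : Finite F) (_ : CharP F 2) (P : Subgroup G),
      Nonempty (NatS F (S : Subgroup G) P (V i) (V (i + 1)) (l i)) := by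
    intro i
    obtain ⟨F, a, b, c, P, N, -⟩ := hN i
    exact ⟨F, a, b, c, P, ⟨N⟩⟩
  have g1 : PT.ThmC2 l (PT.XW l V) := by
    refine D.thmC2F hML hE hM hK (fun i x hx hx1 y hy hy1 => ?_) (fun i => ?_)
    · obtain ⟨F, _, _, _, P, ⟨N⟩⟩ := hN' i
      obtain ⟨h, a1, a2, -, a4⟩ := torZ_of_natS N ((D.VQ i).trans (D.Q_le_S i)) (D.sqV i) x hx hx1 y hy hy1
      exact ⟨h, a1, a2, a4⟩
    · obtain ⟨F, _, _, _, P, ⟨N⟩⟩ := hN' i
      exact torU_of_natS N ((D.VQ i).trans (D.Q_le_S i)) (D.sqV i)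
  have hg3 := D.g3F hML hK g1
  exact (lfrw_of D hN' (D.bf hN hg3)).false_of_g3 hML hK hN' g1 hg3

end Cfsg.Agent.Omega.KL.TwoZ.Line
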